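import Mathlib.Analysis.Complex.Basic
import Mathlib.LinearAlgebra.Matrix.Determinant.Basic
import Mathlib.Algebra.Field.GeomSum

/-! Sums of products of two determinants over subsets of `ℤ/N` containing `0`: the rotation argument. -/

set_option autoImplicit false

namespace VerlLib

open Finset

variable {r N : ℕ} [NeZero N]

/-- One unsorted term of the Cauchy–Binet expansion. -/
noncomputable def Φ (ω : ℂ) (x y : Fin r → ℂ) (a : Fin r → Fin N) : ℂ :=
  (∏ i, (ω * y i) ^ (a i : ℕ)) * (Matrix.of fun i j : Fin r => x j ^ (a i : ℕ)).det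

theorem Φ_eq_zero (ω : ℂ) (x y : Fin r → ℂ) (a : Fin r → Fin N) (h : ¬ Function.Injective a) :
    Φ ω x y a = 0 := by
  obtain ⟨i, j, hij, hne⟩ : ∃ i j, a i = a j ∧ i ≠ j := by
    simpa [Function.Injective] using h
  rw [Φ, Matrix.det_zero_of_row_eq hne (funext fun l => by simp [hij]), mul_zero]

theorem det_mul_col (v : Fin r → ℂ) (A : Matrix (Fin r) (Fin r) ℂ) :
    (Matrix.of fun i j => v j * A i j).det = (∏ j, v j) * A.det :=
  Matrix.det_mul_row v A

/-- The number of coordinates below the `i`-th one. -/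
def rk (a : Fin r → Fin N) (i : Fin r) : ℕ := #{j | a j < a i}

theorem sum_pow_rk_eq_zero (hr : 0 < r) (c : ℂ) (hc : c ≠ 1) (hcr : c ^ r = 1) (a : Fin r → Fin N)
    (ha : Function.Injective a) : ∑ i, c ^ rk a i = 0 := by
  have hlt : ∀ i, rk a i < r := fun i => by
    have : rk a i < #(univ : Finset (Fin r)) := card_lt_card ⟨subset_univ _, fun h => by
      simpa using h (mem_univ i)⟩
    simpa using this
  have hinj : Function.Injective fun i => (⟨rk a i, hlt i⟩ : Fin r) := by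
    intro i j h
    have h' : rk a i = rk a j := congrArg Fin.val h
    by_contra hne
    have key : ∀ p q : Fin r, a p < a q → rk a p < rk a q := fun p q hpq => by
      refine card_lt_card ⟨fun l hl => ?_, fun hs => ?_⟩
      · simp only [mem_filter, mem_univ, true_and] at hl ⊢
        exact hl.trans hpq
      · simpa using hs (show p ∈ ({l | a l < a q} : Finset (Fin r)) by simpa using hpq)
    rcases lt_or_gt_of_ne (fun e => hne (ha e)) with h1 | h1
    · exact (key i j h1).ne h'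
    · exact (key j i h1).ne h'.symm
  have hbij := Finite.injective_iff_bijective.1 hinj
  rw [show ∑ i, c ^ rk a i = ∑ i : Fin r, c ^ (i : ℕ) from
    Fintype.sum_bijective _ hbij (fun i => c ^ rk a i) (fun i => c ^ (i : ℕ)) (fun i => rfl),
    Fin.sum_univ_eq_sum_range (fun i => c ^ i) r]
  exact (mul_eq_zero.1 (show (∑ i ∈ range r, c ^ i) * (c - 1) = 0 by rw [geom_sum_mul, hcr, sub_self])).resolve_right
    (sub_ne_zero.2 hc)

/-- Rotation. -/
theorem Φ_add (ω : ℂ) (x y : Fin r → ℂ) (hx : ∀ j, x j ^ N = 1) (hy : ∀ j, y j ^ N = 1)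
    (hshift : ω ^ r * (∏ j, x j) * (∏ j, y j) = 1) (a : Fin r → Fin N) (i : Fin r) (ha : a i = 0) (b : Fin N) :
    Φ ω x y (fun j => a j + b) * (ω ^ N) ^ rk (fun j => a j + b) i = Φ ω x y a := by
  let w : Fin r → ℕ := fun j => if a j + b < b then 1 else 0
  have hw : ∀ j, ((a j + b : Fin N) : ℕ) + N * w j = (a j : ℕ) + b := fun j => by
    have h1 := (a j).2
    have h2 := b.2
    simp only [w, Fin.lt_def, Fin.val_add]
    rcases lt_or_ge ((a j : ℕ) + b) N with h | h
    · rw [Nat.mod_eq_of_lt h, if_neg (by omega), mul_zero, add_zero]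
    · rw [Nat.mod_eq_sub_mod h, Nat.mod_eq_of_lt (by omega), if_pos (by omega), mul_one]
      omega
  have hrk : rk (fun j => a j + b) i = ∑ j, w j := by
    rw [rk, card_filter]
    simp only [w, ha, zero_add]
  have hdet : (Matrix.of fun i' j' : Fin r => x j' ^ ((a i' + b : Fin N) : ℕ)).det =
      (∏ j, x j ^ (b : ℕ)) * (Matrix.of fun i' j' : Fin r => x j' ^ (a i' : ℕ)).det := by
    rw [← det_mul_col]
    congr 1
    ext i' j'
    simp only [Matrix.of_apply]
    rw [← pow_add, add_comm (b : ℕ), ← hw i', pow_add, pow_mul, hx, one_pow, mul_one]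
  have hprod : (∏ j, (ω * y j) ^ ((a j + b : Fin N) : ℕ)) * (ω ^ N) ^ (∑ j, w j) =
      (∏ j, (ω * y j) ^ (a j : ℕ)) * ∏ j, (ω * y j) ^ (b : ℕ) := by
    rw [← prod_pow_eq_pow_sum, ← prod_mul_distrib, ← prod_mul_distrib]
    refine prod_congr rfl fun j _ => ?_
    rw [← pow_add _ (a j : ℕ), ← hw j, pow_add, pow_mul, mul_pow ω (y j) N, hy, mul_one]
  have hshift' : (∏ j, (ω * y j) ^ (b : ℕ)) * (∏ j, x j ^ (b : ℕ)) = 1 := by
    rw [prod_pow, prod_pow, ← mul_pow, prod_mul_distrib, prod_const, Finset.card_univ, Fintype.card_fin,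
      mul_right_comm, hshift, one_pow]
  rw [Φ, Φ, hrk, hdet, mul_right_comm, hprod]
  linear_combination ((∏ j, (ω * y j) ^ (a j : ℕ)) * (Matrix.of fun i' j' : Fin r => x j' ^ (a i' : ℕ)).det) * hshift'

/-- The weighted sum over all tuples. -/
theorem card_mul_sum (ω : ℂ) (x y : Fin r → ℂ) (hx : ∀ j, x j ^ N = 1) (hy : ∀ j, y j ^ N = 1)
    (hshift : ω ^ r * (∏ j, x j) * (∏ j, y j) = 1) :
    (N : ℂ) * ∑ i : Fin r, ∑ a ∈ univ.filter (fun a : Fin r → Fin N => a i = 0), Φ ω x y a =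
      ∑ a : Fin r → Fin N, Φ ω x y a * ∑ i, (ω ^ N) ^ rk a i := by
  simp_rw [mul_sum]
  conv_rhs => rw [sum_comm]
  refine sum_congr rfl fun i _ => ?_
  rw [← sum_fiberwise (univ : Finset (Fin r → Fin N)) (fun a => a i)]
  rw [show ∑ b : Fin N, ∑ a ∈ univ.filter (fun a : Fin r → Fin N => a i = b), Φ ω x y a * (ω ^ N) ^ rk a i =
    ∑ b : Fin N, ∑ a ∈ univ.filter (fun a : Fin r → Fin N => a i = 0), Φ ω x y a from ?_]
  · rw [sum_const, Finset.card_univ, Fintype.card_fin, nsmul_eq_mul, mul_sum]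
  · refine sum_congr rfl fun b _ => ?_
    refine (sum_bij' (fun a _ j => a j + b) (fun a _ j => a j - b) ?_ ?_ ?_ ?_ ?_).symm
    · intro a ha; simpa using ha
    · intro a ha; simp only [mem_filter, mem_univ, true_and] at ha ⊢; rw [ha, sub_self]
    · intro a _; simp
    · intro a _; simp
    · intro a ha
      exact (Φ_add ω x y hx hy hshift a i (by simpa using ha) b).symm

/-- The matrix whose determinant is the sum over all tuples. -/
theorem sum_Φ_eq_det (ω : ℂ) (x y : Fin r → ℂ) :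
    ∑ a : Fin r → Fin N, Φ ω x y a =
      (Matrix.of fun i j : Fin r => ∑ l ∈ range N, (ω * y i * x j) ^ l).det := by
  simp only [Matrix.det_apply', Φ, Matrix.of_apply, mul_sum]
  rw [sum_comm]
  refine sum_congr rfl fun σ _ => ?_
  simp_rw [← Fin.sum_univ_eq_sum_range (fun l => (_ : ℂ) ^ l) N]
  rw [Fintype.prod_sum, mul_sum,
    ← Fintype.sum_equiv (Equiv.arrowCongr σ (Equiv.refl (Fin N))) _ _ (fun a => rfl)]
  refine sum_congr rfl fun a _ => ?_
  rw [mul_left_comm]
  congr 1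
  rw [← Equiv.prod_comp σ (fun i => (ω * y i) ^ ((Equiv.arrowCongr σ (Equiv.refl (Fin N)) a) i : ℕ)),
    ← prod_mul_distrib]
  refine prod_congr rfl fun j _ => ?_
  simp [Equiv.arrowCongr, mul_pow]

/-- The sum over tuples with a zero coordinate vanishes. -/
theorem sum_zero_coord_eq_zero (hr : 0 < r) (ω : ℂ) (x y : Fin r → ℂ) (hx : ∀ j, x j ^ N = 1) (hy : ∀ j, y j ^ N = 1)
    (hshift : ω ^ r * (∏ j, x j) * (∏ j, y j) = 1) (hωr : (ω ^ N) ^ r = 1)
    (hdet : ω ^ N = 1 → (Matrix.of fun i j : Fin r => ∑ l ∈ range N, (ω * y i * x j) ^ l).det = 0) :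
    ∑ i : Fin r, ∑ a ∈ univ.filter (fun a : Fin r → Fin N => a i = 0), Φ ω x y a = 0 := by
  have h := card_mul_sum ω x y hx hy hshift
  have hN : (N : ℂ) ≠ 0 := Nat.cast_ne_zero.2 (NeZero.ne N)
  refine (mul_eq_zero.1 (h.trans ?_)).resolve_left hN
  by_cases hc : ω ^ N = 1
  · simp only [hc, one_pow, sum_const, Finset.card_univ, Fintype.card_fin]
    rw [← sum_mul, sum_Φ_eq_det, hdet hc, zero_mul]
  · refine sum_eq_zero fun a _ => ?_
    by_cases ha : Function.Injective a
    · rw [sum_pow_rk_eq_zero hr _ hc hωr a ha, mul_zero]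
    · rw [Φ_eq_zero ω x y a ha, zero_mul]

end VerlLib
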