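import Groth.Agent.VerlLib.Rot
import Mathlib.Data.Fin.Tuple.Sort
import Mathlib.LinearAlgebra.Matrix.SchurComplement
import Mathlib.LinearAlgebra.Vandermonde
import Mathlib.Analysis.SpecialFunctions.Complex.Log
import Mathlib.Algebra.BigOperators.Field

/-! The diagonal case of the orthogonality of Schur values at roots of unity. -/

set_option autoImplicit false

namespace VerlLib

open Finset

variable {r M : ℕ} [NeZero M]

/-- A strictly decreasing sequence drops by at least the distance of the indices. -/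
theorem anti_gap {n : ℕ} {s : Fin n → ℕ} (hs : StrictAnti s) :
    ∀ (d : ℕ) (i j : Fin n), (j : ℕ) = i + d → s j + d ≤ s i := by
  intro d
  induction d with
  | zero => intro i j h; rw [Fin.ext (by omega) (a := j) (b := i)]; omega
  | succ d ih =>
    intro i j h
    have := j.2
    have h1 := ih i ⟨i + d, by omega⟩ rfl
    have h2 : s j < s ⟨i + d, by omega⟩ := hs (show (⟨i + d, by omega⟩ : Fin n) < j from Fin.lt_def.2 (by show (i : ℕ) + d < j; omega))
    omega

/-- Cauchy–Binet over sorted tuples. -/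
theorem sum_sorted (x y : Fin r → ℂ) :
    ∑ s ∈ univ.filter (fun s : Fin r → Fin M => StrictAnti s),
      (Matrix.of fun i j : Fin r => x j ^ (s i : ℕ)).det * (Matrix.of fun i j : Fin r => y j ^ (s i : ℕ)).det =
    (Matrix.of fun i j : Fin r => ∑ l ∈ range M, (y i * x j) ^ l).det := by
  classical
  have h := sum_Φ_eq_det (N := M) 1 x y
  simp only [one_mul] at h
  rw [← h, ← sum_subset (s₁ := univ.filter fun a : Fin r → Fin M => Function.Injective a) (subset_univ _)
    (fun a _ ha => Φ_eq_zero 1 x y a (by simpa using ha))]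
  have hinner : ∀ s : Fin r → Fin M, (Matrix.of fun i j : Fin r => x j ^ (s i : ℕ)).det *
      (Matrix.of fun i j : Fin r => y j ^ (s i : ℕ)).det = ∑ σ : Equiv.Perm (Fin r), Φ 1 x y (s ∘ σ) := fun s => by
    rw [Matrix.det_apply' (Matrix.of fun i j : Fin r => y j ^ (s i : ℕ)), mul_sum]
    refine sum_congr rfl fun σ _ => ?_
    have hperm : (Matrix.of fun i j : Fin r => x j ^ ((s ∘ σ) i : ℕ)).det =
        Equiv.Perm.sign σ * (Matrix.of fun i j : Fin r => x j ^ (s i : ℕ)).det := by
      rw [← Matrix.det_permute]; rfl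
    rw [Φ, hperm]
    simp only [one_mul, Matrix.of_apply, Function.comp_apply]
    ring
  rw [sum_congr rfl (fun s _ => hinner s), ← sum_product' _ (univ : Finset (Equiv.Perm (Fin r))) (fun s σ => Φ 1 x y (s ∘ σ))]
  refine sum_bij (fun p _ => p.1 ∘ p.2) ?_ ?_ ?_ (fun _ _ => rfl)
  · rintro ⟨s, σ⟩ hp
    have hs : StrictAnti s := (mem_filter.1 (mem_product.1 hp).1).2
    simp only [mem_filter, mem_univ, true_and]
    exact hs.injective.comp σ.injective
  · rintro ⟨s, σ⟩ hp ⟨s', σ'⟩ hp' h
    have hs : StrictAnti s := (mem_filter.1 (mem_product.1 hp).1).2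
    have hs' : StrictAnti s' := (mem_filter.1 (mem_product.1 hp').1).2
    have h : s ∘ σ = s' ∘ σ' := h
    have h3 : Set.range s = Set.range s' := by
      have := congrArg Set.range h
      rwa [σ.surjective.range_comp, σ'.surjective.range_comp] at this
    have h4 : s = s' := (hs.range_inj hs').1 h3
    subst h4
    rw [show σ = σ' from Equiv.ext fun i => hs.injective (congrFun h i)]
  · intro a ha
    have hinj : Function.Injective a := (mem_filter.1 ha).2
    let τ : Equiv.Perm (Fin r) := Fin.revPerm.trans (Tuple.sort a)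
    have hmono : StrictMono (a ∘ Tuple.sort a) :=
      (Tuple.monotone_sort a).strictMono_of_injective (hinj.comp (Tuple.sort a).injective)
    have hs : StrictAnti (fun i => a (τ i)) := fun p q hpq => hmono (Fin.rev_lt_rev.2 hpq)
    exact ⟨(fun i => a (τ i), τ.symm), mem_product.2 ⟨mem_filter.2 ⟨mem_univ _, hs⟩, mem_univ _⟩, funext fun j => by simp⟩

/-- The determinant of truncated geometric sums at distinct roots of unity. -/
theorem det_geom (N : ℕ) (hN : 2 ≤ N) (z : Fin r → ℂ) (hzN : ∀ i, z i ^ N = 1) (hinj : Function.Injective z) :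
    (Matrix.of fun i j : Fin r => ∑ l ∈ range (N - 1), ((z i)⁻¹ * z j) ^ l).det =
      (N : ℂ) ^ r * (1 - r / N) := by
  have hz0 : ∀ i, z i ≠ 0 := fun i h => by
    have := hzN i
    rw [h, zero_pow (by omega)] at this
    exact zero_ne_one this
  have hN0 : (N : ℂ) ≠ 0 := Nat.cast_ne_zero.2 (by omega)
  have key : (Matrix.of fun i j : Fin r => ∑ l ∈ range (N - 1), ((z i)⁻¹ * z j) ^ l) =
      (N : ℂ) • (1 + Matrix.replicateCol Unit (fun i => -(z i) / N) * Matrix.replicateRow Unit (fun j => (z j)⁻¹)) := by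
    ext i j
    rw [Matrix.smul_apply, Matrix.add_apply, Matrix.of_apply]
    simp only [Matrix.mul_apply, Matrix.replicateCol_apply, Matrix.replicateRow_apply, Finset.univ_unique,
      Finset.sum_singleton, smul_eq_mul, Matrix.one_apply]
    by_cases hij : i = j
    · subst hij
      rw [if_pos rfl, inv_mul_cancel₀ (hz0 i)]
      simp only [one_pow, sum_const, card_range, nsmul_eq_mul, mul_one]
      rw [Nat.cast_sub (by omega)]
      field_simp [hz0 i, hN0]
      ring
    · rw [if_neg hij]
      have hw : (z i)⁻¹ * z j ≠ 1 := fun h => hij (hinj (eq_comm.1 ((inv_mul_eq_one₀ (hz0 i)).1 h).symm))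
      have hwN : ((z i)⁻¹ * z j) ^ N = 1 := by rw [mul_pow, inv_pow, hzN, hzN, inv_one, one_mul]
      have hwl : ((z i)⁻¹ * z j) ^ (N - 1) = z i * (z j)⁻¹ := by
        refine mul_right_cancel₀ (mul_ne_zero (inv_ne_zero (hz0 i)) (hz0 j)) ?_
        rw [← pow_succ, Nat.sub_add_cancel (by omega), hwN]
        field_simp [hz0 i, hz0 j]
      have h0 : ∑ l ∈ range N, ((z i)⁻¹ * z j) ^ l = 0 :=
        (mul_eq_zero.1 (show (∑ l ∈ range N, ((z i)⁻¹ * z j) ^ l) * ((z i)⁻¹ * z j - 1) = 0 by
          rw [geom_sum_mul, hwN, sub_self])).resolve_right (sub_ne_zero.2 hw)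
      rw [show N = N - 1 + 1 by omega, sum_range_succ, hwl] at h0
      rw [eq_neg_of_add_eq_zero_left h0]
      field_simp
      ring
  rw [key, Matrix.det_smul, Fintype.card_fin, Matrix.det_one_add_replicateCol_mul_replicateRow]
  congr 1
  rw [dotProduct, sum_congr rfl (fun i _ => show (z i)⁻¹ * (-(z i) / (N : ℂ)) = -(1 / (N : ℂ)) by field_simp [hz0 i]),
    sum_const, Finset.card_univ, Fintype.card_fin, nsmul_eq_mul]
  ring

/-- The descending alternant in terms of the Vandermonde determinant. -/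
theorem det_alternant (x : Fin r → ℂ) :
    (Matrix.of fun i j : Fin r => x j ^ (r - 1 - (i : ℕ))).det =
      (Equiv.Perm.sign (Fin.revPerm : Equiv.Perm (Fin r)) : ℂ) * ∏ i : Fin r, ∏ j ∈ Ioi i, (x j - x i) := by
  rw [← Matrix.det_vandermonde, ← Matrix.det_transpose (Matrix.vandermonde x), ← Matrix.det_permute]
  congr 1
  ext i j
  simp only [Matrix.of_apply, Matrix.submatrix_apply, id_eq, Matrix.transpose_apply, Matrix.vandermonde_apply,
    Fin.revPerm_apply, Fin.val_rev]
  congr 1
  omega

theorem two_sin_sq (θ : ℝ) :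
    (((2 * Real.sin θ) ^ 2 : ℝ) : ℂ) = 2 - Complex.exp (θ * Complex.I) ^ 2 - (Complex.exp (θ * Complex.I) ^ 2)⁻¹ := by
  push_cast
  rw [Complex.sin, show -(θ : ℂ) * Complex.I = -((θ : ℂ) * Complex.I) by ring, Complex.exp_neg]
  have h0 := Complex.exp_ne_zero ((θ : ℂ) * Complex.I)
  set t := Complex.exp ((θ : ℂ) * Complex.I)
  field_simp
  linear_combination (1 - t ^ 2) ^ 2 * Complex.I_sq

end VerlLib
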